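import Cfsg.Agent.H46.Tab
import Cfsg.Prelude.Def_ChevB2

/-!
# Packed tables of type B2 and their kernel check (generated file)
-/

set_option autoImplicit false
set_option maxRecDepth 100000

namespace Cfsg.Agent.H46

open Cfsg.Lie

/-- Chain rows of type B2. -/
def chainTB2 : NTree :=
(.node 4
 (.node 2
 (.node 1
 (.leaf 0x1b000015000000000000000000000000000000)
 (.leaf 0x2503300000000002200d01d00000000000e000000000000))
 (.node 3
 (.leaf 0x2b03d00002a00000000000000b01500000000000a000000)
 (.leaf 0x35000000000000000000000013000000000000)))
 (.node 6
 (.node 5
 (.leaf 0x3d00000000000000000000001b000000)
 (.leaf 0x4600000004303b000000000000000026023013))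
 (.node 7
 (.leaf 0x4200000004503300002e00000002d01d)
 (.leaf 0x3b000035000000))))

/-- Packed tables of type B2. -/
def tabB2 : Tab where
  bits := 24
  chainT := chainTB2
  reflN := 0x702c1807048080a00000000000000000000000000000000000000000000000000000000000000000000000000000000000000000000000000000000000000000000000000000000000000000000000000000000000000000000000000000000000000000000000000000000000000000000000000000000000000000000000000000000000000000000000000000000000000000000000000000000000000000000000000000000000000000000000000000000000000000000000000000000000000000000000000000000000000000000000000000000000000000000000000000000000000000000000000000000000000000000000000000000000000000000000000000000000000000000000000000000000000000000000000000000048340a0f0082c0607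
  coordN := 0x8900000088000000780000008700000067000000760000006600000065
  corN := 0x8800000098000000780000008700000067000000760000005600000066
  keyN := 0x40000000000000814000000000000041400000000000004040000000000000013fffffffffffffff3fffffffffffffc03fffffffffffffbf3fffffffffffff7f
  cmN := 0x9600000059
  reps := [6, 7]

theorem chkRootsB2 : chkRoots chevB2 tabB2 = true := by decide +kernel

theorem chkSimpleB2 : chkSimple chevB2 tabB2 = true := by decide +kernel

theorem chkReflB2 : chkRefl chevB2 tabB2 = true := by decide +kernel

theorem chkEntB2 : chkEnt chevB2 tabB2 = true := by decide +kernel

theorem chkInvB2 : chkInv chevB2 tabB2 = true := by decide +kernel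

theorem chkNB2 : chkN chevB2 tabB2 = true := by decide +kernel

theorem chkSingleB2 : chkSingle chevB2 tabB2 = true := by decide +kernel

theorem chkPairsB2 : chkPairs chevB2 tabB2 = true := by decide +kernel

/-- Type B2 passes all checks. -/
def goodB2 : Good chevB2 where
  tab := tabB2
  roots := chkRootsB2
  simples := chkSimpleB2
  refls := chkReflB2
  ents := chkEntB2
  invs := chkInvB2
  ns := chkNB2
  singles := chkSingleB2
  pairs := chkPairsB2

end Cfsg.Agent.H46
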