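import Cfsg.Agent.H46.Tab
import Cfsg.Prelude.Def_ChevG2

/-!
# Packed tables of type G2 and their kernel check (generated file)
-/

set_option autoImplicit false
set_option maxRecDepth 100000

namespace Cfsg.Agent.H46

open Cfsg.Lie

/-- Chain rows of type G2. -/
def chainTG2 : NTree :=
(.node 6
 (.node 3
 (.node 1
 (.leaf 0x3300000002300000001d000000000000000015000000000000000000000000000000000000000000000000000000)
 (.node 2
 (.leaf 0x3b00000000000000002b00000000000000001d00000000000000000d000000000000000000000000000000000000000000000)
 (.leaf 0x1302b04b00d02504300000000000001702e00000902200000000000000000000000001700000000f000000000000000000000000000)))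
 (.node 4
 (.leaf 0x3304505500000000000003104600000000000000003100d01b02d00000000000000f01a000000000000000009000000000000000000)
 (.node 5
 (.leaf 0x3d04b05500003f04a00000003900000000000000000001301d02500000000000001101e000000011000000000000000000)
 (.leaf 0x5d00000000000000000000000004500000000000000000000000000000000002300000000000000000000000000b000000000))))
 (.node 9
 (.node 7
 (.leaf 0x6500000000000000000000000004d00000000000000000000000000000000002b000000000000000000000000013)
 (.node 8
 (.leaf 0x5f00005905200000000005d05504b00000000000000000000000003700003702603302301b000000000)
 (.leaf 0x6700000000000006705600000000006305304300000003f00000000000003902a00000000003d02d01b)))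
 (.node 10
 (.leaf 0x6100000005900000000000000000000006104e00005f04200000000006304d02d05d043025)
 (.node 11
 (.leaf 0x63000000000000000053000000000000000045000000000000000035)
 (.leaf 0x5b00000000000000005300000004d00000003d000000000)))))

/-- Packed tables of type G2. -/
def tabG2 : Tab where
  bits := 36
  chainT := chainTG2
  reflN := 0xa858240f0802c1a060481000030000000000000000000000000000000000000000000000000000000000000000000000000000000000000000000000000000000000000000000000000000000000000000000000000000000000000000000000000000000000000000000000000000000000000000000000000000000000000000000000000000000000000000000000000000000000000000000000000000000000000000000000000000000000000000000000000000000000000000000000000000000000000000000000000000000000000000000000000000000000000000000000000000000000000000000000000000000000000000000000000000000000000000000000000000000000000000000000000000000000000000000000b034221204850040f0201c1600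
  coordN := 0x9a0000008a00000089000000880000007800000087000000670000007600000066000000650000006400000054
  corN := 0x9800000088000000a9000000a80000007800000087000000670000007600000046000000450000006600000056
  keyN := 0x40000000000000c240000000000000c140000000000000814000000000000041400000000000004040000000000000013fffffffffffffff3fffffffffffffc03fffffffffffffbf3fffffffffffff7f3fffffffffffff3f3fffffffffffff3e
  cmN := 0x9600000049
  reps := [9, 11]

theorem chkRootsG2 : chkRoots chevG2 tabG2 = true := by decide +kernel

theorem chkSimpleG2 : chkSimple chevG2 tabG2 = true := by decide +kernel

theorem chkReflG2 : chkRefl chevG2 tabG2 = true := by decide +kernel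

theorem chkEntG2 : chkEnt chevG2 tabG2 = true := by decide +kernel

theorem chkInvG2 : chkInv chevG2 tabG2 = true := by decide +kernel

theorem chkNG2 : chkN chevG2 tabG2 = true := by decide +kernel

theorem chkSingleG2 : chkSingle chevG2 tabG2 = true := by decide +kernel

theorem chkPairsG2 : chkPairs chevG2 tabG2 = true := by decide +kernel

/-- Type G2 passes all checks. -/
def goodG2 : Good chevG2 where
  tab := tabG2
  roots := chkRootsG2
  simples := chkSimpleG2
  refls := chkReflG2
  ents := chkEntG2
  invs := chkInvG2
  ns := chkNG2
  singles := chkSingleG2
  pairs := chkPairsG2

end Cfsg.Agent.H46
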