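import Cfsg.Agent.H46.Elements
import Cfsg.Agent.H46.TypeG2
import Cfsg.Agent.H46.TypeB2
import Cfsg.Agent.H46.TypeD4
import Cfsg.Agent.H46.TypeF4
import Cfsg.Agent.H46.TypeE6
import Cfsg.Agent.H46.TypeE7
import Cfsg.Agent.H46.TypeE8

/-!
# The seven tabulated data are good
-/

set_option autoImplicit false

namespace Cfsg.Agent.H46

open Cfsg.Lie

/-- Each of the seven tabulated data passes all the table checks. -/
theorem good_of_mem {D : ChevalleyDatum}
    (hD : D ∈ [chevG2, chevB2, chevD4, chevF4, chevE6, chevE7, chevE8]) : Nonempty (Good D) := by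
  simp only [List.mem_cons, List.not_mem_nil, or_false] at hD
  rcases hD with rfl | rfl | rfl | rfl | rfl | rfl | rfl
  exacts [⟨goodG2⟩, ⟨goodB2⟩, ⟨goodD4⟩, ⟨goodF4⟩, ⟨goodE6⟩, ⟨goodE7⟩, ⟨goodE8⟩]

end Cfsg.Agent.H46
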